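import Groth.Agent.EtaleCrit.Basic

/-!
Etale over a polynomial ring in terms of parameters and residue differentials.
-/

universe u

namespace Groth.Agent.EtaleCrit

variable {k : Type u} [Field k] {n : ℕ}

/-- The substitution killing the first `j` variables. -/
noncomputable def killVars (j : ℕ) : MvPolynomial (Fin n) k →ₐ[k] MvPolynomial (Fin n) k :=
  MvPolynomial.aeval fun i : Fin n => if (i : ℕ) < j then 0 else MvPolynomial.X i

theorem ker_killVars (j : ℕ) : RingHom.ker (killVars (k := k) (n := n) j) =
    Ideal.span ((fun i : Fin n => (MvPolynomial.X i : MvPolynomial (Fin n) k)) '' {i : Fin n | (i : ℕ) < j}) := by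
  set I := Ideal.span ((fun i : Fin n => (MvPolynomial.X i : MvPolynomial (Fin n) k)) '' {i : Fin n | (i : ℕ) < j})
  refine le_antisymm (fun x hx => ?_) (Ideal.span_le.2 ?_)
  · have h : (Ideal.Quotient.mkₐ k I).comp (killVars j) = Ideal.Quotient.mkₐ k I := by
      refine MvPolynomial.algHom_ext fun i => ?_
      show Ideal.Quotient.mk I (killVars j (MvPolynomial.X i)) = Ideal.Quotient.mk I (MvPolynomial.X i)
      rw [killVars, MvPolynomial.aeval_X]
      split_ifs with hi
      · rw [map_zero]
        exact (Ideal.Quotient.eq_zero_iff_mem.2 (show (MvPolynomial.X i : MvPolynomial (Fin n) k) ∈ I from Ideal.subset_span ⟨i, hi, rfl⟩)).symm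
      · rfl
    have := congrArg (fun f : MvPolynomial (Fin n) k →ₐ[k] _ => f x) h
    simp only [AlgHom.comp_apply, RingHom.mem_ker.1 hx, map_zero] at this
    exact Ideal.Quotient.eq_zero_iff_mem.1 this.symm
  · rintro _ ⟨i, hi, rfl⟩
    show killVars j (MvPolynomial.X i) = 0
    rw [killVars, MvPolynomial.aeval_X, if_pos (show (i : ℕ) < j from hi)]

/-- The height of a prime containing the first `r` variables. -/
theorem le_height_span_vars (r : ℕ) (hr : r ≤ n) :
    (r : ℕ∞) ≤ (RingHom.ker (killVars (k := k) (n := n) r)).height := by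
  let L : LTSeries (PrimeSpectrum (MvPolynomial (Fin n) k)) :=
    { length := r
      toFun := fun j => ⟨RingHom.ker (killVars (k := k) (n := n) (j : ℕ)), RingHom.ker_isPrime _⟩
      step := fun j => by
        show RingHom.ker (killVars (k := k) (n := n) (j : ℕ)) < RingHom.ker (killVars (k := k) (n := n) ((j : ℕ) + 1))
        refine lt_of_le_of_ne ?_ fun he => ?_
        · rw [ker_killVars, ker_killVars]
          exact Ideal.span_mono (Set.image_mono fun i (hi : (i : ℕ) < (j : ℕ)) => Nat.lt_succ_of_lt hi)
        · let i : Fin n := ⟨(j : ℕ), lt_of_lt_of_le j.2 hr⟩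
          have h1 : (MvPolynomial.X i : MvPolynomial (Fin n) k) ∈ RingHom.ker (killVars (k := k) (n := n) ((j : ℕ) + 1)) := by
            rw [RingHom.mem_ker, killVars, MvPolynomial.aeval_X, if_pos (Nat.lt_succ_self (j : ℕ))]
          rw [← he, RingHom.mem_ker, killVars, MvPolynomial.aeval_X, if_neg (lt_irrefl (j : ℕ))] at h1
          exact MvPolynomial.X_ne_zero i h1 }
  haveI : (RingHom.ker (killVars (k := k) (n := n) r)).IsPrime := RingHom.ker_isPrime _
  rw [PrimeSpectrum.height_eq_orderHeight ⟨RingHom.ker (killVars (k := k) (n := n) r), inferInstance⟩]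
  exact Order.length_le_height (p := L) le_rfl

variable {A : Type u} [CommRing A] [Algebra k A] [Algebra.FiniteType k A] [Algebra (MvPolynomial (Fin n) k) A]
    [IsScalarTower k (MvPolynomial (Fin n) k) A]

theorem height_under_le (p : Ideal A) [p.IsPrime] [Algebra.IsEtaleAt (MvPolynomial (Fin n) k) p] :
    ((p.under (MvPolynomial (Fin n) k)).height : WithBot ℕ∞) ≤ ringKrullDim (Localization.AtPrime p) := by
  let P := MvPolynomial (Fin n) k
  haveI : Algebra.FiniteType P A := Algebra.FiniteType.of_restrictScalars_finiteType k P A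
  haveI : IsNoetherianRing A := Algebra.FiniteType.isNoetherianRing k A
  haveI : Algebra.FinitePresentation P A := Algebra.FinitePresentation.of_finiteType.1 inferInstance
  obtain ⟨_, ⟨_, ⟨f, rfl⟩, rfl⟩, hfp, hsub⟩ := PrimeSpectrum.isBasis_basic_opens.exists_subset_of_mem_open
    (show (⟨p, inferInstance⟩ : PrimeSpectrum A) ∈ Algebra.etaleLocus P A from ‹_›) Algebra.isOpen_etaleLocus
  haveI : Algebra.Etale P (Localization.Away f) := Algebra.basicOpen_subset_etaleLocus_iff_etale.1 hsub
  let mf := p.map (algebraMap A (Localization.Away f))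
  have hdisj : Disjoint (Submonoid.powers f : Set A) (p : Set A) :=
    (Ideal.disjoint_powers_iff_notMem f (Ideal.IsPrime.isRadical inferInstance)).2 hfp
  haveI : mf.IsPrime := IsLocalization.isPrime_of_isPrime_disjoint (Submonoid.powers f) _ p inferInstance hdisj
  have hcomap : mf.comap (algebraMap A (Localization.Away f)) = p :=
    IsLocalization.comap_map_of_isPrime_disjoint (Submonoid.powers f) _ inferInstance hdisj
  have hq : mf.under P = p.under P := by
    show Ideal.comap _ _ = Ideal.comap _ _
    rw [IsScalarTower.algebraMap_eq P A (Localization.Away f), ← Ideal.comap_comap, hcomap]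
  haveI : mf.LiesOver (p.under P) := ⟨hq.symm⟩
  haveI : IsNoetherianRing (Localization.Away f) := IsLocalization.isNoetherianRing (Submonoid.powers f) _ inferInstance
  haveI : Module.Flat P (Localization.Away f) := inferInstance
  haveI : Algebra.HasGoingDown P (Localization.Away f) := Algebra.HasGoingDown.of_flat
  have h := Ideal.height_eq_height_add_of_liesOver_of_hasGoingDown (p.under P) mf
  rw [IsLocalization.height_map_of_disjoint (Submonoid.powers f) p hdisj] at h
  rw [IsLocalization.AtPrime.ringKrullDim_eq_height p (Localization.AtPrime p)]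
  exact WithBot.coe_le_coe.2 (h ▸ le_self_add)

theorem under_eq_of_isEtaleAt (p : Ideal A) [p.IsPrime] [Algebra.IsEtaleAt (MvPolynomial (Fin n) k) p] (r : ℕ) (hr : r ≤ n)
    (hdim : ringKrullDim (Localization.AtPrime p) = (r : WithBot ℕ∞))
    (hg : ∀ i : Fin n, (i : ℕ) < r → algebraMap (MvPolynomial (Fin n) k) A (MvPolynomial.X i) ∈ p) :
    p.under (MvPolynomial (Fin n) k) =
      Ideal.span ((fun i : Fin n => (MvPolynomial.X i : MvPolynomial (Fin n) k)) '' {i : Fin n | (i : ℕ) < r}) := by
  rw [← ker_killVars]
  set q := p.under (MvPolynomial (Fin n) k)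
  set J := RingHom.ker (killVars (k := k) (n := n) r)
  have hq : q.height ≤ r := WithBot.coe_le_coe.1 ((height_under_le p).trans hdim.le)
  have hle : J ≤ q := by
    rw [show J = _ from ker_killVars r]
    exact Ideal.span_le.2 (by rintro _ ⟨i, hi, rfl⟩; exact hg i hi)
  by_contra hne
  haveI : J.IsPrime := RingHom.ker_isPrime _
  haveI : J.FiniteHeight := (Ideal.finiteHeight_iff J).2 (Or.inr (ne_top_of_le_ne_top (ENat.natCast_ne_top r)
    ((Ideal.height_mono hle).trans hq)))
  have h1 := Ideal.height_strict_mono_of_isPrime (lt_of_le_of_ne hle (Ne.symm hne))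
  exact absurd ((le_height_span_vars r hr).trans_lt h1) (not_lt.2 hq)

end Groth.Agent.EtaleCrit
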