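import Groth.Agent.EtaleCrit.Params
import Groth.Agent.EGA41Lib.Separable
import Groth.Agent.S14436

/-!
Separable field extensions and spanning differentials.
-/

universe u

namespace Groth.Agent.EtaleCrit

variable {k L : Type u} [Field k] [Field L] [Algebra k L] [Algebra.EssFiniteType k L]

theorem isSeparable_adjoin_of_span {ι : Type*} (g : ι → L)
    (hg : Submodule.span L (Set.range fun i => KaehlerDifferential.D k L (g i)) = ⊤) :
    Algebra.IsSeparable (IntermediateField.adjoin k (Set.range g)) L := by
  let F := IntermediateField.adjoin k (Set.range g)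
  haveI : Algebra.EssFiniteType F L := Algebra.EssFiniteType.of_comp k F L
  haveI : Algebra.FormallyUnramified F L := by
    rw [Algebra.formallyUnramified_iff]
    refine subsingleton_of_forall_eq 0 fun x => ?_
    obtain ⟨y, rfl⟩ := KaehlerDifferential.map_surjective k F L x
    have hy : y ∈ Submodule.span L (Set.range fun i => KaehlerDifferential.D k L (g i)) := hg ▸ Submodule.mem_top
    induction hy using Submodule.span_induction with
    | mem x hx =>
      obtain ⟨i, rfl⟩ := hx
      rw [KaehlerDifferential.map_D]
      exact Derivation.map_algebraMap _ (⟨g i, IntermediateField.subset_adjoin k _ ⟨i, rfl⟩⟩ : F)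
    | zero => rw [map_zero]
    | add a b _ _ ha hb => rw [map_add, ha, hb, add_zero]
    | smul c a _ ha => rw [map_smul, ha, smul_zero]
  exact Algebra.FormallyUnramified.isSeparable F L

open scoped IntermediateField.algebraAdjoinAdjoin in
omit [Algebra.EssFiniteType k L] in
theorem isAlgebraic_adjoin {ι : Type*} (g : ι → L)
    [Algebra.IsAlgebraic (IntermediateField.adjoin k (Set.range g)) L] :
    Algebra.IsAlgebraic (Algebra.adjoin k (Set.range g)) L := by
  haveI : Algebra.IsAlgebraic (Algebra.adjoin k (Set.range g)) (IntermediateField.adjoin k (Set.range g)) :=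
    IsLocalization.isAlgebraic _ (nonZeroDivisors (Algebra.adjoin k (Set.range g)))
  exact Algebra.IsAlgebraic.trans (Algebra.adjoin k (Set.range g)) (IntermediateField.adjoin k (Set.range g)) L

theorem trdeg_le_of_span {m : ℕ} (g : Fin m → L)
    (hg : Submodule.span L (Set.range fun i => KaehlerDifferential.D k L (g i)) = ⊤) :
    Algebra.trdeg k L ≤ m := by
  haveI := isSeparable_adjoin_of_span g hg
  haveI : Algebra.IsAlgebraic (IntermediateField.adjoin k (Set.range g)) L := inferInstance
  haveI : Algebra.IsAlgebraic (Algebra.adjoin k (Set.range g)) L := isAlgebraic_adjoin g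
  refine (Algebra.IsAlgebraic.trdeg_le_cardinalMk k (Set.range g)).trans ?_
  simpa using Cardinal.mk_range_le_lift (f := g)

theorem isGeometricallyReduced_of_span_trdeg {m : ℕ} (hm : (m : Cardinal) ≤ Algebra.trdeg k L) (g : Fin m → L)
    (hg : Submodule.span L (Set.range fun i => KaehlerDifferential.D k L (g i)) = ⊤) :
    Algebra.IsGeometricallyReduced k L := by
  haveI := isSeparable_adjoin_of_span g hg
  haveI : Algebra.IsAlgebraic (IntermediateField.adjoin k (Set.range g)) L := inferInstance
  haveI : Algebra.IsAlgebraic (Algebra.adjoin k (Set.range g)) L := isAlgebraic_adjoin g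
  have hb : IsTranscendenceBasis k g :=
    Algebra.IsAlgebraic.isTranscendenceBasis_of_lift_le_trdeg_of_finite k g (by simpa using hm)
  exact EGA41Lib.formallySmooth_iff_isGeometricallyReduced.1
    (Algebra.FormallySmooth.of_algebraicIndependent_of_isSeparable hb.1)

theorem exists_span_of_isGeometricallyReduced [Algebra.IsGeometricallyReduced k L] (t : ℕ)
    (ht : Algebra.trdeg k L = t) :
    ∃ g : Fin t → L, Submodule.span L (Set.range fun i => KaehlerDifferential.D k L (g i)) = ⊤ := by
  obtain ⟨s, hs, hsep⟩ : ∃ s : Finset L, IsTranscendenceBasis k ((↑) : s → L) ∧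
      Algebra.IsSeparable (IntermediateField.adjoin k (s : Set L)) L := by
    obtain _ | ⟨c, hc, hck⟩ := CharP.exists' k
    · exact exists_isTranscendenceBasis_and_isSeparable_of_perfectField k L
    · have : CharP L c := charP_of_injective_algebraMap (algebraMap k L).injective c
      exact exists_isTranscendenceBasis_and_isSeparable_of_linearIndepOn_pow_of_essFiniteType c hc.out
        fun v hv => EGA41Lib.frobLI_of_isGeometricallyReduced (p := c) _ hv
  let e := (Finset.equivFin s).symm
  have hb : IsTranscendenceBasis k (fun i => ((e i : s) : L)) := hs.comp_equiv e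
  have hr : Set.range (fun i => ((e i : s) : L)) = (s : Set L) := by
    ext x
    exact ⟨fun ⟨i, hi⟩ => hi ▸ (e i).2, fun hx => ⟨e.symm ⟨x, hx⟩, by simp⟩⟩
  have hsep' : Algebra.IsSeparable ↥(IntermediateField.adjoin k (Set.range fun i => ((e i : s) : L))) L :=
    hr.symm ▸ hsep
  have hrank := S14436.result k L ⟨_, (IntermediateField.fg_top k L).choose_spec⟩ _ _ hb hsep'
  have hc : s.card = t := by
    have := hs.cardinalMk_eq_trdeg
    rw [ht, Cardinal.mk_coe_finset] at this
    exact_mod_cast this
  obtain ⟨f, hf, hspan, -⟩ := Submodule.exists_fun_fin_finrank_span_eq L (Set.range (KaehlerDifferential.D k L))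
  have hdim : Module.finrank L (Submodule.span L (Set.range (KaehlerDifferential.D k L))) = t := by
    rw [KaehlerDifferential.span_range_derivation, finrank_top, hrank, hc]
  choose a ha using hf
  refine ⟨fun i => a (Fin.cast hdim.symm i), ?_⟩
  rw [show (fun i : Fin t => KaehlerDifferential.D k L (a (Fin.cast hdim.symm i))) = f ∘ Fin.cast hdim.symm from
    funext fun i => ha _, Set.range_comp, show Set.range (Fin.cast hdim.symm) = Set.univ from (finCongr hdim.symm).surjective.range_eq, Set.image_univ, hspan,
    KaehlerDifferential.span_range_derivation]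

end Groth.Agent.EtaleCrit
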